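import Groth.Agent.L28.DeltaStrict.Field
import Groth.Agent.L28.DeltaFlat.Residue
import Groth.Prelude.Def_Hens2

/-!
# The dimension function on a strict localisation
-/

set_option autoImplicit false
set_option linter.style.haveILetI false
set_option backward.isDefEq.respectTransparency.types false
set_option maxHeartbeats 1000000
universe u

open CategoryTheory CategoryTheory.Limits AlgebraicGeometry IsLocalRing

namespace Groth.Agent.L28.DeltaStrict

theorem isAlgebraic_residue_specOf (Y : Scheme.{u}) (y₀ : Y) (R : Type u) [CommRing R] [IsLocalRing R]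
    [Algebra (Y.presheaf.stalk y₀) R] [IsLocalHom (algebraMap (Y.presheaf.stalk y₀) R)]
    [Hensel.IsStrictHenselization (Y.presheaf.stalk y₀) R] (z : Spec (CommRingCat.of R)) :
    @Algebra.IsAlgebraic _ _ _ _ ((Hens2.specOf Y y₀ R).residueFieldMap z).hom.toAlgebra := by
  have h1 := isAlgebraic_residueFieldMap_specMap (Y.presheaf.stalk y₀) R z fun p _ _ => by
    haveI : z.asIdeal.IsPrime := z.2
    exact isAlgebraic_quotient_strict _ R p z.asIdeal
  have h2 := Groth.L22.FibreDim.residueFieldMap_bijective (Y.fromSpecStalk y₀)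
    ((Spec.map (CommRingCat.ofHom (algebraMap (Y.presheaf.stalk y₀) R))).base z)
  show @Algebra.IsAlgebraic _ _ _ _ ((Spec.map (CommRingCat.ofHom (algebraMap (Y.presheaf.stalk y₀) R))
    ≫ Y.fromSpecStalk y₀).residueFieldMap z).hom.toAlgebra
  rw [Scheme.residueFieldMap_comp]
  exact isAlgebraic_comp_surjective _ h2.2 _ h1

theorem trdeg_of_algebraic_base {X Y Z : Scheme.{u}} (f : X ⟶ Y) (g : Z ⟶ Y)
    (hg : ∀ z : Z, @Algebra.IsAlgebraic _ _ _ _ (g.residueFieldMap z).hom.toAlgebra)
    (t : ↥(pullback f g)) :
    @Algebra.trdeg (Z.residueField ((pullback.snd f g).base t))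
        ((pullback f g).residueField t) _ _ ((pullback.snd f g).residueFieldMap t).hom.toAlgebra =
      @Algebra.trdeg (Y.residueField (f.base ((pullback.fst f g).base t)))
        (X.residueField ((pullback.fst f g).base t)) _ _
        (f.residueFieldMap ((pullback.fst f g).base t)).hom.toAlgebra := by
  let T := AlgebraicGeometry.Scheme.Pullback.Triplet.ofPoint t
  refine trdeg_eq_of_compositum (f.residueFieldMap T.x).hom
    ((pullback.fst f g).residueFieldMap t).hom
    ((Y.residueFieldCongr T.hy).inv ≫ g.residueFieldMap T.y).hom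
    ((pullback.snd f g).residueFieldMap t).hom ?_
    (Groth.Agent.L28.DeltaFlat.closure_residueField_eq_top t) ?_
  · have e1 : f.residueFieldMap T.x ≫ (pullback.fst f g).residueFieldMap t =
        ((Y.residueFieldCongr T.hy).inv ≫ g.residueFieldMap T.y) ≫
          (pullback.snd f g).residueFieldMap t :=
      (congrArg (· ≫ (pullback.fst f g).residueFieldMap t)
        (Category.id_comp (f.residueFieldMap T.x))).symm.trans
          (AlgebraicGeometry.Scheme.Pullback.residueFieldCongr_inv_residueFieldMap_ofPoint t)
    exact congrArg CommRingCat.Hom.hom e1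
  · exact isAlgebraic_comp_surjective _
      (Y.residueFieldCongr T.hy).symm.commRingCatIsoToRingEquiv.surjective _ (hg T.y)

attribute [local instance] Curv2.resAlgebra in
theorem trdeg_residue_add (k : Type u) [Field k] {X Y : Scheme.{u}} [X.Over (Spec (CommRingCat.of k))]
    [Y.Over (Spec (CommRingCat.of k))] (f : X ⟶ Y)
    (w : f ≫ (Y ↘ Spec (CommRingCat.of k)) = (X ↘ Spec (CommRingCat.of k))) (x : X) :
    Algebra.trdeg k (Y.residueField (f.base x)) +
        @Algebra.trdeg (Y.residueField (f.base x)) (X.residueField x) _ _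
          (f.residueFieldMap x).hom.toAlgebra =
      Algebra.trdeg k (X.residueField x) := by
  letI := (f.residueFieldMap x).hom.toAlgebra
  have hsq : CommRingCat.ofHom (Curv2.resMap k Y (f.base x)) ≫ f.residueFieldMap x =
      CommRingCat.ofHom (Curv2.resMap k X x) := by
    apply Spec.map_injective
    rw [Spec.map_comp, Groth.L22.FibreDim.SpecMap_resMap, Groth.L22.FibreDim.SpecMap_resMap,
      Scheme.Hom.SpecMap_residueFieldMap_fromSpecResidueField_assoc, w]
  haveI : IsScalarTower k (Y.residueField (f.base x)) (X.residueField x) :=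
    IsScalarTower.of_algebraMap_eq fun c => (congrArg (fun φ => φ.hom c) hsq).symm
  haveI : ∀ (P Q : Type u) [Field P] [Field Q] [Algebra P Q], FaithfulSMul P Q := fun P Q _ _ _ =>
    (faithfulSMul_iff_algebraMap_injective _ _).mpr (algebraMap P Q).injective
  exact trdeg_add_eq k (Y.residueField (f.base x)) (A := X.residueField x)

end Groth.Agent.L28.DeltaStrict
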