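import Groth.Agent.L28.DeltaStrict.Quot
import Groth.Agent.L28.DimClosure.Sch
import Groth.Agent.L05.WE.Fibre
import Groth.Agent.L22.FibreDim
import Groth.Agent.S12237

/-!
# Residue fields on a strict localisation
-/

set_option autoImplicit false
set_option linter.style.haveILetI false
set_option backward.isDefEq.respectTransparency.types false
universe u

open CategoryTheory AlgebraicGeometry IsLocalRing

namespace Groth.Agent.L28.DeltaStrict

theorem isAlgebraic_quotient_strict (O R : Type u) [CommRing O] [IsLocalRing O] [CommRing R]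
    [IsLocalRing R] [Algebra O R] [IsLocalHom (algebraMap O R)] [Hensel.IsStrictHenselization O R]
    (p : Ideal O) [p.IsPrime] (p' : Ideal R) [p'.IsPrime] [p'.LiesOver p] :
    Algebra.IsAlgebraic (O ⧸ p) (R ⧸ p') := by
  haveI := Groth.L27.IndEtale.weaklyEtale _ _ (Groth.Agent.S12237.result O R)
  letI : Algebra p.ResidueField p'.ResidueField :=
    (Ideal.ResidueField.mapₐ p p' (Algebra.ofId O R) Ideal.LiesOver.over).toRingHom.toAlgebra
  haveI : IsScalarTower O p.ResidueField p'.ResidueField := IsScalarTower.of_algebraMap_eq fun b =>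
    ((Ideal.ResidueField.mapₐ p p' (Algebra.ofId O R) Ideal.LiesOver.over).commutes b).symm
  haveI := Groth.L05.WE.isSeparable_residueField_of_weaklyEtale p p'
  letI : Algebra (O ⧸ p) p'.ResidueField :=
    ((algebraMap p.ResidueField p'.ResidueField).comp (algebraMap (O ⧸ p) p.ResidueField)).toAlgebra
  haveI : IsScalarTower (O ⧸ p) p.ResidueField p'.ResidueField :=
    IsScalarTower.of_algebraMap_eq' rfl
  haveI : IsScalarTower (O ⧸ p) (R ⧸ p') p'.ResidueField :=
    IsScalarTower.of_algebraMap_eq fun c => by
      obtain ⟨b, rfl⟩ := Ideal.Quotient.mk_surjective c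
      change algebraMap p.ResidueField p'.ResidueField
          (algebraMap (O ⧸ p) p.ResidueField (Ideal.Quotient.mk p b)) =
        algebraMap (R ⧸ p') p'.ResidueField (Ideal.Quotient.mk p' (algebraMap O R b))
      rw [Ideal.algebraMap_quotient_residueField_mk, Ideal.algebraMap_quotient_residueField_mk,
        ← IsScalarTower.algebraMap_apply, ← IsScalarTower.algebraMap_apply]
  haveI : Algebra.IsAlgebraic (O ⧸ p) p.ResidueField :=
    IsLocalization.isAlgebraic _ (nonZeroDivisors (O ⧸ p))
  haveI : Algebra.IsAlgebraic (O ⧸ p) p'.ResidueField :=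
    Algebra.IsAlgebraic.trans (O ⧸ p) p.ResidueField p'.ResidueField
  exact Algebra.IsAlgebraic.tower_bot_of_injective
    (A := p'.ResidueField) (FaithfulSMul.algebraMap_injective (R ⧸ p') p'.ResidueField)

/-- The residue extensions of `Spec R → Spec O` are algebraic. -/
theorem isAlgebraic_residueFieldMap_specMap (O R : Type u) [CommRing O] [CommRing R] [Algebra O R]
    (z : Spec (CommRingCat.of R))
    (h : ∀ (p : Ideal O) (_ : p.IsPrime) (_ : z.asIdeal.LiesOver p),
      Algebra.IsAlgebraic (O ⧸ p) (R ⧸ z.asIdeal)) :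
    @Algebra.IsAlgebraic _ _ _ _
      ((Spec.map (CommRingCat.ofHom (algebraMap O R))).residueFieldMap z).hom.toAlgebra := by
  set φ := Spec.map (CommRingCat.ofHom (algebraMap O R))
  let w := φ.base z
  set p := w.asIdeal
  haveI : p.IsPrime := w.2
  haveI : z.asIdeal.IsPrime := z.2
  haveI : z.asIdeal.LiesOver p := ⟨rfl⟩
  haveI := h p inferInstance inferInstance
  let S : Type u := ((Spec (CommRingCat.of O)).presheaf.stalk w : CommRingCat.{u})
  haveI : IsLocalRing S := inferInstanceAs (IsLocalRing ((Spec (CommRingCat.of O)).presheaf.stalk w))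
  letI : Algebra O S := StructureSheaf.stalkAlgebra O w
  haveI : IsLocalization.AtPrime S p := StructureSheaf.IsLocalization.to_stalk O w
  let T : Type u := ((Spec (CommRingCat.of R)).presheaf.stalk z : CommRingCat.{u})
  haveI : IsLocalRing T := inferInstanceAs (IsLocalRing ((Spec (CommRingCat.of R)).presheaf.stalk z))
  letI : Algebra R T := StructureSheaf.stalkAlgebra R z
  haveI : IsLocalization.AtPrime T z.asIdeal := StructureSheaf.IsLocalization.to_stalk R z
  obtain ⟨hkS, -⟩ := Groth.Agent.L28.DimClosure.residue_localization (O := S) p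
  obtain ⟨hkT, -⟩ := Groth.Agent.L28.DimClosure.residue_localization (O := T) z.asIdeal
  letI : Algebra (O ⧸ p) (ResidueField S) :=
    (Ideal.Quotient.lift p ((residue S).comp (algebraMap O S)) fun r hr => hkS.ge hr).toAlgebra
  letI : Algebra (R ⧸ z.asIdeal) (ResidueField T) :=
    (Ideal.Quotient.lift z.asIdeal ((residue T).comp (algebraMap R T)) fun r hr => hkT.ge hr).toAlgebra
  obtain ⟨i1, i2⟩ := Groth.Agent.L28.DimClosure.isAlgebraic_lift (O := S) p fun r => rfl
  obtain ⟨i3, i4⟩ := Groth.Agent.L28.DimClosure.isAlgebraic_lift (O := T) z.asIdeal fun r => rfl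
  letI : Algebra (ResidueField S) (ResidueField T) := (φ.residueFieldMap z).hom.toAlgebra
  letI : Algebra (O ⧸ p) (ResidueField T) :=
    ((algebraMap (R ⧸ z.asIdeal) (ResidueField T)).comp
      (algebraMap (O ⧸ p) (R ⧸ z.asIdeal))).toAlgebra
  haveI : IsScalarTower (O ⧸ p) (R ⧸ z.asIdeal) (ResidueField T) :=
    IsScalarTower.of_algebraMap_eq' rfl
  haveI : IsScalarTower (O ⧸ p) (ResidueField S) (ResidueField T) :=
    IsScalarTower.of_algebraMap_eq fun c => by
      obtain ⟨r, rfl⟩ := Ideal.Quotient.mk_surjective c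
      change residue T (algebraMap R T (algebraMap O R r)) =
        φ.residueFieldMap z ((Spec (CommRingCat.of O)).residue w (algebraMap O S r))
      refine (congrArg (residue T) ?_).trans
        (ConcreteCategory.congr_hom (Scheme.residue_residueFieldMap φ z) _).symm
      have h1 : (Scheme.ΓSpecIso (CommRingCat.of O)).inv ≫
          (Spec (CommRingCat.of O)).presheaf.germ ⊤ w trivial ≫ φ.stalkMap z =
          CommRingCat.ofHom (algebraMap O R) ≫ (Scheme.ΓSpecIso (CommRingCat.of R)).inv ≫
            (Spec (CommRingCat.of R)).presheaf.germ ⊤ z trivial := by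
        rw [Scheme.Hom.germ_stalkMap]
        exact (Scheme.ΓSpecIso_inv_naturality_assoc (CommRingCat.ofHom (algebraMap O R))
          ((Spec (CommRingCat.of R)).presheaf.germ ⊤ z trivial)).symm
      exact (congrArg (fun e => e.hom r) h1).symm
  haveI : Algebra.IsAlgebraic (O ⧸ p) (ResidueField T) :=
    Algebra.IsAlgebraic.trans (O ⧸ p) (R ⧸ z.asIdeal) (ResidueField T)
  exact Algebra.IsAlgebraic.extendScalars (R := O ⧸ p) (S := ResidueField S) (A := ResidueField T)
    (FaithfulSMul.algebraMap_injective (O ⧸ p) (ResidueField S))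

/-- Precomposition with a surjection keeps extensions algebraic. -/
theorem isAlgebraic_comp_surjective {K L M : Type u} [Field K] [Field L] [Field M] (e : K →+* L)
    (he : Function.Surjective e) (c : L →+* M) (h : @Algebra.IsAlgebraic L M _ _ c.toAlgebra) :
    @Algebra.IsAlgebraic K M _ _ (c.comp e).toAlgebra := by
  letI := e.toAlgebra
  letI := c.toAlgebra
  letI := (c.comp e).toAlgebra
  haveI : IsScalarTower K L M := IsScalarTower.of_algebraMap_eq' rfl
  haveI := h
  haveI : Algebra.IsAlgebraic K L := ⟨fun x => by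
    obtain ⟨y, rfl⟩ := he x
    exact isAlgebraic_algebraMap y⟩
  exact Algebra.IsAlgebraic.trans K L M

/-- Transcendence degrees along a cartesian square of fields with an algebraic side. -/
theorem trdeg_eq_of_compositum {K N L M : Type u} [Field K] [Field N] [Field L] [Field M]
    (a : K →+* N) (b : N →+* M) (c : K →+* L) (d : L →+* M) (hcomm : b.comp a = d.comp c)
    (hgen : Subfield.closure (Set.range b ∪ Set.range d) = ⊤)
    (hc : @Algebra.IsAlgebraic K L _ _ c.toAlgebra) :
    @Algebra.trdeg L M _ _ d.toAlgebra = @Algebra.trdeg K N _ _ a.toAlgebra := by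
  letI := a.toAlgebra
  letI := b.toAlgebra
  letI := c.toAlgebra
  letI := d.toAlgebra
  letI : Algebra K M := (b.comp a).toAlgebra
  haveI : IsScalarTower K N M := IsScalarTower.of_algebraMap_eq' rfl
  haveI : IsScalarTower K L M := IsScalarTower.of_algebraMap_eq' hcomm
  haveI := hc
  haveI : Algebra.IsAlgebraic N M := by
    let C : Subfield M :=
      { (Subalgebra.algebraicClosure N M).toSubring with
        inv_mem' := fun x hx => IsAlgebraic.inv hx }
    have htop : C = ⊤ := by
      rw [← top_le_iff, ← hgen, Subfield.closure_le]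
      rintro x (⟨y, rfl⟩ | ⟨y, rfl⟩)
      · exact isAlgebraic_algebraMap (R := N) (A := M) y
      · exact ((Algebra.IsAlgebraic.isAlgebraic (R := K) y).algebraMap (A := M)).extendScalars
          (algebraMap K N).injective
    exact ⟨fun x => htop.ge (Subfield.mem_top x)⟩
  haveI : ∀ (P Q : Type u) [Field P] [Field Q] [Algebra P Q], FaithfulSMul P Q := fun P Q _ _ _ =>
    (faithfulSMul_iff_algebraMap_injective _ _).mpr (algebraMap P Q).injective
  have h1 := trdeg_add_eq K N (A := M)
  have h2 := trdeg_add_eq K L (A := M)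
  rw [trdeg_eq_zero (R := N) (A := M), add_zero] at h1
  rw [trdeg_eq_zero (R := K) (A := L), zero_add] at h2
  rw [h1, h2]

end Groth.Agent.L28.DeltaStrict
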