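import Groth.Agent.L28.DeltaStrict.Res
import Groth.Agent.L22.AffineDim
import Groth.Agent.L22.SchemeDim
import Mathlib.RingTheory.Localization.AtPrime.Basic

/-!
# Dimension of a local ring modulo a prime, over a field
-/

set_option autoImplicit false
set_option linter.style.haveILetI false
set_option backward.isDefEq.respectTransparency.types false
set_option maxHeartbeats 1000000
universe u

open CategoryTheory AlgebraicGeometry IsLocalRing

namespace Groth.Agent.L28.DeltaStrict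

theorem isUniversallyCatenary_field (k : Type u) [Field k] : CAlg.IsUniversallyCatenary k :=
  Groth.L06.DimLftJacobson.isUniversallyCatenary_of_regularLocal k

/-- `dim O/p = dim B/P - dim B/q`. -/
theorem dim_local_quotient (k : Type u) [Field k] (B : Type u) [CommRing B] [Algebra k B]
    [Algebra.FiniteType k B] (q : Ideal B) [q.IsPrime] (O : Type u) [CommRing O] [IsLocalRing O]
    [Algebra B O] [IsLocalization.AtPrime O q] (p : Ideal O) [p.IsPrime] (n m : ℕ)
    (hn : ringKrullDim (B ⧸ p.comap (algebraMap B O)) = n) (hm : ringKrullDim (B ⧸ q) = m) :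
    ∃ h : ℕ, ringKrullDim (O ⧸ p) = h ∧ h + m = n := by
  set P := p.comap (algebraMap B O) with hP
  haveI : P.IsPrime := Ideal.IsPrime.comap _
  have hPq : P ≤ q := by
    intro r hr
    by_contra hrq
    exact (Ideal.IsPrime.ne_top (I := p) inferInstance)
      (Ideal.eq_top_of_isUnit_mem _ hr (IsLocalization.map_units O (⟨r, hrq⟩ : q.primeCompl)))
  let qb := q.map (Ideal.Quotient.mk P)
  haveI : qb.IsPrime :=
    Ideal.map_isPrime_of_surjective Ideal.Quotient.mk_surjective (by rwa [Ideal.mk_ker])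
  obtain ⟨h, e, d, hh, he, hd, hhe⟩ := Groth.L22.AffineDim.dim_formula k (B ⧸ P) qb
  have hdn : d = n := by
    have := hd.symm.trans hn
    exact_mod_cast this
  have hem : e = m := by
    have := (he.symm.trans (ringKrullDim_eq_of_ringEquiv (DoubleQuot.quotQuotEquivQuotOfLE hPq))).trans hm
    exact_mod_cast this
  letI : Algebra (B ⧸ P) (O ⧸ p) := (Ideal.quotientMap p (algebraMap B O) le_rfl).toAlgebra
  have hmk : ∀ b : B, algebraMap (B ⧸ P) (O ⧸ p) (Ideal.Quotient.mk P b) =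
      Ideal.Quotient.mk p (algebraMap B O b) := fun b => rfl
  haveI : IsLocalization.AtPrime (O ⧸ p) qb := by
    refine (isLocalization_iff _ _).mpr ⟨fun y => ?_, fun z => ?_, fun {x y} hxy => ⟨1, ?_⟩⟩
    · obtain ⟨b, hb⟩ := Ideal.Quotient.mk_surjective (y : B ⧸ P)
      rw [← hb, hmk]
      refine (IsLocalization.map_units O (⟨b, fun hbq => y.2 ?_⟩ : q.primeCompl)).map _
      rw [← hb]
      exact Ideal.mem_map_of_mem _ hbq
    · obtain ⟨z, rfl⟩ := Ideal.Quotient.mk_surjective z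
      obtain ⟨⟨b, c⟩, e⟩ := IsLocalization.surj q.primeCompl z
      dsimp only at e
      refine ⟨⟨Ideal.Quotient.mk P b, ⟨Ideal.Quotient.mk P c, fun hc => c.2 ?_⟩⟩, ?_⟩
      · have h2 : (c : B) ∈ qb.comap (Ideal.Quotient.mk P) := hc
        rwa [Ideal.comap_map_quotientMk, sup_eq_right.mpr hPq] at h2
      · dsimp only
        rw [hmk, hmk, ← map_mul, e]
    · have hinj : Function.Injective (algebraMap (B ⧸ P) (O ⧸ p)) :=
        Ideal.quotientMap_injective' (H := le_rfl) (h := hP.ge)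
      rw [hinj hxy]
  refine ⟨h, ?_, by omega⟩
  rw [IsLocalization.AtPrime.ringKrullDim_eq_height qb (O ⧸ p), hh]
  rfl

/-- Points in the spectrum of a local ring of a scheme of finite type over a field. -/
theorem exists_dim_stalk_quotient (k : Type u) [Field k] {Y : Scheme.{u}}
    [Y.Over (Spec (CommRingCat.of k))] [LocallyOfFiniteType (Y ↘ Spec (CommRingCat.of k))] (y₀ : Y)
    (w : Spec (Y.presheaf.stalk y₀)) :
    ∃ h n m : ℕ, ringKrullDim (Y.presheaf.stalk y₀ ⧸ w.asIdeal) = h ∧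
      topologicalKrullDim (closure ({(Y.fromSpecStalk y₀).base w} : Set Y)) = n ∧
      topologicalKrullDim (closure ({y₀} : Set Y)) = m ∧ h + m = n ∧
      CAlg.IsUniversallyCatenary (Y.presheaf.stalk y₀) := by
  obtain ⟨U, hU, hy₀, -⟩ :=
    exists_isAffineOpen_mem_and_subset (X := Y) (x := y₀) (U := ⊤) (TopologicalSpace.Opens.mem_top y₀)
  letI : Algebra Γ(Y, U) (Y.presheaf.stalk y₀) := (Y.presheaf.germ U y₀ hy₀).hom.toAlgebra
  haveI := hU.isLocalization_stalk ⟨y₀, hy₀⟩
  letI : Algebra k Γ(Y, U) := (Groth.L22.SchemeDim.sectHom k Y U).toAlgebra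
  haveI : Algebra.FiniteType k Γ(Y, U) :=
    RingHom.finiteType_algebraMap.1 (Groth.L22.SchemeDim.finiteType_sectHom k Y hU)
  haveI : w.asIdeal.IsPrime := w.2
  let W : Spec Γ(Y, U) := (Spec.map (Y.presheaf.germ U y₀ hy₀)).base w
  have hW : W.asIdeal = w.asIdeal.comap (algebraMap Γ(Y, U) (Y.presheaf.stalk y₀)) := rfl
  have hy : (Y.fromSpecStalk y₀).base w = hU.fromSpec.base W := by
    rw [← hU.fromSpecStalk_eq_fromSpecStalk hy₀]
    rfl
  set y := (Y.fromSpecStalk y₀).base w with hydef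
  have hyU : y ∈ U := hy ▸ hU.range_fromSpec.subset ⟨W, rfl⟩
  have hWy : hU.primeIdealOf ⟨y, hyU⟩ = W :=
    hU.fromSpec.isOpenEmbedding.injective ((hU.fromSpec_primeIdealOf ⟨y, hyU⟩).trans hy)
  obtain ⟨n, hn, hn'⟩ := Groth.L22.SchemeDim.exists_dim_quotient_eq_trdeg k Y hU hyU
  obtain ⟨n', hnc, hnc'⟩ := Groth.L22.SchemeDim.exists_dim_closure_eq_trdeg k Y y
  obtain ⟨m, hm, hm'⟩ := Groth.L22.SchemeDim.exists_dim_quotient_eq_trdeg k Y hU hy₀
  obtain ⟨m', hmc, hmc'⟩ := Groth.L22.SchemeDim.exists_dim_closure_eq_trdeg k Y y₀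
  have en : n' = n := by exact_mod_cast hnc'.symm.trans hn'
  have em : m' = m := by exact_mod_cast hmc'.symm.trans hm'
  rw [en] at hnc
  rw [em] at hmc
  rw [hWy, hW] at hn
  obtain ⟨h, hh, hhm⟩ := dim_local_quotient k Γ(Y, U) (hU.primeIdealOf ⟨y₀, hy₀⟩).asIdeal
    (Y.presheaf.stalk y₀) w.asIdeal n m hn hm
  refine ⟨h, n, m, hh, hnc, hmc, hhm, ?_⟩
  haveI : Algebra.EssFiniteType Γ(Y, U) (Y.presheaf.stalk y₀) :=
    Algebra.EssFiniteType.of_isLocalization _ (hU.primeIdealOf ⟨y₀, hy₀⟩).asIdeal.primeCompl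
  exact Groth.Agent.S9126.result Γ(Y, U) (Y.presheaf.stalk y₀)
    (Groth.Agent.S9126.result k Γ(Y, U) (isUniversallyCatenary_field k))

end Groth.Agent.L28.DeltaStrict
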