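import Groth.Agent.L05.Henselization.Catenary
import Groth.Agent.L20.RG.TrdegLift
import Groth.Agent.L28.DeltaFlat.Dim
import Groth.Agent.S0538
import Groth.Agent.S0539
import Groth.Agent.S0540
import Groth.Agent.S0555
import Groth.Agent.L28.DimClosure.Ring
import Groth.Agent.L06.DimLftJacobson
import Groth.Agent.S9126

/-!
# Quotients of strict henselizations by primes
-/

set_option autoImplicit false
set_option linter.style.haveILetI false
set_option maxHeartbeats 1000000
set_option backward.isDefEq.respectTransparency.types false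
universe u

open IsLocalRing

namespace Groth.Agent.L28.DeltaStrict

/-- Quotients of a quasi-finite algebra are algebraic over the quotient below. -/
theorem trdeg_quotient_eq_zero {B C : Type u} [CommRing B] [CommRing C] [Algebra B C]
    [Algebra.QuasiFinite B C] (y : Ideal B) (Q : Ideal C) [y.IsPrime] [Q.IsPrime] [hQy : Q.LiesOver y] :
    Algebra.trdeg (B ⧸ y) (C ⧸ Q) = 0 := by
  letI : Algebra y.ResidueField Q.ResidueField :=
    (Ideal.ResidueField.mapₐ y Q (Algebra.ofId B C) hQy.over).toRingHom.toAlgebra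
  haveI := Groth.L20.RG.isAlgebraic_residueField_of_quasiFinite y Q
  haveI : IsScalarTower B y.ResidueField Q.ResidueField :=
    IsScalarTower.of_algebraMap_eq fun b =>
      ((Ideal.ResidueField.mapₐ y Q (Algebra.ofId B C) hQy.over).commutes b).symm
  letI : Algebra (B ⧸ y) Q.ResidueField :=
    ((algebraMap y.ResidueField Q.ResidueField).comp (algebraMap (B ⧸ y) y.ResidueField)).toAlgebra
  haveI : IsScalarTower (B ⧸ y) y.ResidueField Q.ResidueField := IsScalarTower.of_algebraMap_eq' rfl
  haveI : IsScalarTower (B ⧸ y) (C ⧸ Q) Q.ResidueField := IsScalarTower.of_algebraMap_eq fun c => by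
    obtain ⟨b, rfl⟩ := Ideal.Quotient.mk_surjective c
    change algebraMap y.ResidueField Q.ResidueField
        (algebraMap (B ⧸ y) y.ResidueField (Ideal.Quotient.mk y b)) =
      algebraMap (C ⧸ Q) Q.ResidueField (Ideal.Quotient.mk Q (algebraMap B C b))
    rw [Ideal.algebraMap_quotient_residueField_mk, Ideal.algebraMap_quotient_residueField_mk,
      ← IsScalarTower.algebraMap_apply, ← IsScalarTower.algebraMap_apply]
  haveI : Algebra.IsAlgebraic (B ⧸ y) y.ResidueField :=
    IsLocalization.isAlgebraic _ (nonZeroDivisors (B ⧸ y))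
  haveI : Algebra.IsAlgebraic (B ⧸ y) Q.ResidueField :=
    Algebra.IsAlgebraic.trans (B ⧸ y) y.ResidueField Q.ResidueField
  haveI : Algebra.IsAlgebraic (B ⧸ y) (C ⧸ Q) :=
    Algebra.IsAlgebraic.tower_bot_of_injective
      (A := Q.ResidueField) (FaithfulSMul.algebraMap_injective (C ⧸ Q) Q.ResidueField)
  exact trdeg_eq_zero

/-- Primes of a quasi-finite extension over the closed point have full height. -/
theorem height_eq_of_quasiFinite (B : Type u) [CommRing B] [IsDomain B] [IsLocalRing B]
    (hB : CAlg.IsUniversallyCatenary B) (C : Type u) [CommRing C] [IsDomain C] [Algebra B C]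
    [FaithfulSMul B C] [Algebra.FiniteType B C] [Algebra.QuasiFinite B C] (n : Ideal C) [n.IsPrime]
    [n.LiesOver (maximalIdeal B)] : n.height = (maximalIdeal B).height := by
  have hform := Groth.Agent.S0555.result B hB C (maximalIdeal B) n
  rw [trdeg_quotient_eq_zero (maximalIdeal B) n, add_zero] at hform
  haveI : (⊥ : Ideal C).IsPrime := Ideal.isPrime_bot
  haveI : Algebra.IsAlgebraic B C := by
    haveI : (⊥ : Ideal C).LiesOver (⊥ : Ideal B) :=
      ⟨(RingHom.injective_iff_ker_eq_bot _).mp (FaithfulSMul.algebraMap_injective B C) |>.symm⟩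
    haveI : (⊥ : Ideal B).IsPrime := Ideal.isPrime_bot
    refine ⟨fun c => ?_⟩
    have h0 := trdeg_quotient_eq_zero (B := B) (C := C) (⊥ : Ideal B) (⊥ : Ideal C)
    rw [trdeg_eq_zero_iff] at h0
    have := h0.isAlgebraic (Ideal.Quotient.mk (⊥ : Ideal C) c)
    exact IsAlgebraic.of_ringHom_of_comp_eq (Ideal.Quotient.mk (⊥ : Ideal B))
      (Ideal.Quotient.mk (⊥ : Ideal C)) this Ideal.Quotient.mk_surjective
      (fun a b h => sub_eq_zero.mp (by simpa [Ideal.Quotient.eq] using h)) (RingHom.ext fun r => rfl)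
  rw [trdeg_eq_zero (R := B) (A := C), add_zero] at hform
  exact Cardinal.ofENat_injective hform

/-- The lower bound from one stage of the henselization. -/
theorem le_of_stage {O R : Type u} [CommRing O] [IsLocalRing O] [CommRing R]
    [IsLocalRing R] [Algebra O R] (hO : CAlg.IsUniversallyCatenary O) (p' : Ideal R) [p'.IsPrime]
    (C : Type u) [CommRing C] [Algebra O C] [Algebra C R] [IsScalarTower O C R] [Module.Flat C R]
    [Algebra.FiniteType O C] [Algebra.QuasiFinite O C] [Module.FaithfullyFlat O R]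
    (hfib : ∀ q : Ideal R, ∀ _ : q.IsPrime,
      q.comap (algebraMap O R) = maximalIdeal O → q = maximalIdeal R)
    (hgen : p' ≤ (p'.comap (algebraMap C R)).map (algebraMap C R)) :
    ringKrullDim (O ⧸ p'.comap (algebraMap O R)) ≤ ringKrullDim (R ⧸ p') := by
  haveI := hO.1
  set p := p'.comap (algebraMap O R) with hp
  haveI : p.IsPrime := Ideal.IsPrime.comap _
  let q := p'.comap (algebraMap C R)
  haveI : q.IsPrime := Ideal.IsPrime.comap _
  let n := (maximalIdeal R).comap (algebraMap C R)
  haveI : n.IsPrime := Ideal.IsPrime.comap _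
  have hqn : q ≤ n := Ideal.comap_mono (le_maximalIdeal (Ideal.IsPrime.ne_top inferInstance))
  have hcq : p = q.comap (algebraMap O C) := by
    rw [hp, Ideal.comap_comap, ← IsScalarTower.algebraMap_eq]
  haveI : q.LiesOver p := ⟨hcq⟩
  haveI : Algebra.FiniteType (O ⧸ p) (C ⧸ q) :=
    Algebra.FiniteType.of_restrictScalars_finiteType O _ _
  haveI : FaithfulSMul (O ⧸ p) (C ⧸ q) :=
    (faithfulSMul_iff_algebraMap_injective _ _).mpr
      (Ideal.quotientMap_injective' (H := hcq.le) (h := hcq.ge))
  haveI : IsLocalRing (O ⧸ p) :=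
    IsLocalRing.of_surjective' (Ideal.Quotient.mk p) Ideal.Quotient.mk_surjective
  haveI : Algebra.QuasiFinite O (C ⧸ q) := inferInstance
  haveI : Algebra.QuasiFinite (O ⧸ p) (C ⧸ q) :=
    Algebra.QuasiFinite.of_restrictScalars O (O ⧸ p) (C ⧸ q)
  let n' := n.map (Ideal.Quotient.mk q)
  haveI : n'.IsPrime :=
    Ideal.map_isPrime_of_surjective Ideal.Quotient.mk_surjective (by rwa [Ideal.mk_ker])
  have hn' : n'.comap (Ideal.Quotient.mk q) = n :=
    Ideal.comap_map_quotientMk _ _ |>.trans (sup_eq_right.mpr hqn)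
  have hover : maximalIdeal (O ⧸ p) = n'.comap (algebraMap (O ⧸ p) (C ⧸ q)) := by
    apply Ideal.comap_injective_of_surjective _ Ideal.Quotient.mk_surjective
    rw [Groth.Agent.L28.DeltaFlat.comap_maximalIdeal_of_surjective _ Ideal.Quotient.mk_surjective,
      Ideal.comap_comap]
    have : (algebraMap (O ⧸ p) (C ⧸ q)).comp (Ideal.Quotient.mk p) =
        (Ideal.Quotient.mk q).comp (algebraMap O C) := rfl
    rw [this, ← Ideal.comap_comap, hn', Ideal.comap_comap, ← IsScalarTower.algebraMap_eq]
    exact (Groth.Agent.L28.DeltaFlat.comap_maximalIdeal hfib).symm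
  haveI : n'.LiesOver (maximalIdeal (O ⧸ p)) := ⟨hover⟩
  have hht : n'.height = (maximalIdeal (O ⧸ p)).height :=
    height_eq_of_quasiFinite (O ⧸ p)
      (Groth.Agent.L28.DimClosure.isUniversallyCatenary_quotient hO p) (C ⧸ q) n'
  haveI : IsNoetherianRing (C ⧸ q) := Algebra.FiniteType.isNoetherianRing (O ⧸ p) (C ⧸ q)
  obtain ⟨l, hl, hlen⟩ := n'.exists_ltSeries_length_eq_height
  let lc := l.map (PrimeSpectrum.comap (Ideal.Quotient.mk q))
    (RingHom.strictMono_comap_of_surjective Ideal.Quotient.mk_surjective)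
  haveI : (maximalIdeal R).LiesOver lc.last.asIdeal := ⟨by
    change (PrimeSpectrum.comap (Ideal.Quotient.mk q) l.last).asIdeal = _
    rw [hl]
    exact hn'⟩
  obtain ⟨L, hLlen, -, hmap⟩ := Ideal.exists_ltSeries_of_hasGoingDown lc (maximalIdeal R)
  have hhead : PrimeSpectrum.comap (algebraMap C R) L.head = lc.head := by
    rw [← L.toList_getElem_zero_eq_head, ← lc.toList_getElem_zero_eq_head,
      List.getElem_map_rev (PrimeSpectrum.comap (algebraMap C R)),
      List.getElem_of_eq hmap]
  have hpL : p' ≤ L.head.asIdeal := hgen.trans (Ideal.map_le_iff_le_comap.mpr (by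
    rw [show L.head.asIdeal.comap (algebraMap C R) = lc.head.asIdeal from
      congrArg PrimeSpectrum.asIdeal hhead]
    intro z hz
    change Ideal.Quotient.mk q z ∈ l.head.asIdeal
    rw [Ideal.Quotient.eq_zero_iff_mem.mpr hz]
    exact Ideal.zero_mem _))
  rw [← IsLocalRing.maximalIdeal_height_eq_ringKrullDim, ← hht, ← hlen, ringKrullDim_quotient]
  let L' : LTSeries (PrimeSpectrum.zeroLocus (R := R) p') :=
    LTSeries.mk L.length (fun i => ⟨L i, hpL.trans (L.head_le i)⟩) L.strictMono
  refine le_trans (le_of_eq ?_) (Order.LTSeries.length_le_krullDim L')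
  exact congrArg (fun n : ℕ => ((n : ℕ∞) : WithBot ℕ∞)) (hLlen.trans rfl).symm


/-- Strict henselization does not lower the dimension of a quotient by a prime. -/
theorem ringKrullDim_quotient_eq (O R : Type u) [CommRing O] [IsLocalRing O] [CommRing R]
    [IsLocalRing R] [Algebra O R] [IsLocalHom (algebraMap O R)] [Hensel.IsStrictHenselization O R]
    (hO : CAlg.IsUniversallyCatenary O) (p' : Ideal R) [p'.IsPrime] :
    ringKrullDim (R ⧸ p') = ringKrullDim (O ⧸ p'.comap (algebraMap O R)) := by
  classical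
  haveI := hO.1
  haveI : IsNoetherianRing R := (Groth.Agent.S0540.result O R).mp inferInstance
  haveI : Module.FaithfullyFlat O R := Groth.Agent.S0539.result O R
  have hmR := Groth.Agent.S0538.result O R
  have hfib : ∀ q : Ideal R, ∀ _ : q.IsPrime,
      q.comap (algebraMap O R) = maximalIdeal O → q = maximalIdeal R := fun q hq e =>
    le_antisymm (le_maximalIdeal hq.ne_top) (by
      rw [← hmR, Ideal.map_le_iff_le_comap, e])
  refine le_antisymm (Groth.Agent.L28.DeltaFlat.ringKrullDim_quotient_comap_le hfib p') ?_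
  obtain ⟨e⟩ := Groth.L05.Henselization.strictHenselization_algEquiv O R
  obtain ⟨s, hs⟩ := IsNoetherian.noetherian p'
  obtain ⟨X, hX⟩ := Groth.L05.Henselization.exists_lift_finset (s.image e.symm)
  let ι' : X.R →ₐ[O] R := e.toAlgHom.comp (Groth.L05.Henselization.ι X)
  have hflat : ι'.toRingHom.Flat :=
    RingHom.Flat.comp (Groth.L05.Henselization.flat_ι X) (RingHom.Flat.of_bijective e.bijective)
  letI : Algebra X.R R := ι'.toRingHom.toAlgebra
  haveI : IsScalarTower O X.R R := IsScalarTower.of_algebraMap_eq fun o => (ι'.commutes o).symm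
  haveI : Module.Flat X.R R := hflat
  refine le_of_stage hO p' X.R hfib ?_
  rw [← hs]
  refine Submodule.span_le.mpr fun b hb => ?_
  obtain ⟨y, hy⟩ := hX (e.symm b) (Finset.mem_image_of_mem _ hb)
  have hy' : algebraMap X.R R y = b := (congrArg e hy).trans (e.apply_symm_apply b)
  rw [← hy']
  refine Ideal.mem_map_of_mem _ ?_
  change algebraMap X.R R y ∈ Submodule.span R (s : Set R)
  rw [hy']
  exact Submodule.subset_span hb

end Groth.Agent.L28.DeltaStrict
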